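import Cfsg.Agent.H290.ElReg
import Cfsg.Agent.H189.AltTwo
import Cfsg.Agent.H912.BdAlt

/-!
# S3541: lower bounds for the degree of a faithful linear representation, the alternating groups (helper53)
-/

set_option autoImplicit false

namespace Cfsg.Agent.TH.Ex.Dg

open Equiv Equiv.Perm Module Cfsg.Agent.H290.ElReg
open Cfsg.Agent.H189 Cfsg.Agent.H189.Cyc Cfsg.Agent.H189.Wt Cfsg.Agent.H189.NatMod Cfsg.Agent.H189.Emb
  Cfsg.Agent.H189.AltOdd Cfsg.Agent.H189.AltOddDim Cfsg.Agent.H189.Eig Cfsg.Agent.H189.AltTwo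

section

variable {k V : Type} [Field k] [AddCommGroup V] [Module k V] {G : Type} [Group G]

theorem eq_zero_of_smul {c : k} (hc : c ≠ 0) {x : V} (h : c • x = 0) : x = 0 := (smul_eq_zero.1 h).resolve_left hc

/-- an element of order three which permutes the involutions of a four-group has a fixed vector -/
theorem exists_fix (h2 : (2 : k) ≠ 0) (ρ : G →* End k V) {z1 z2 y : G} (r1 : z1 * z1 = 1) (r2 : z2 * z2 = 1)
    (rc : z1 * z2 = z2 * z1) (r3 : z2 * y = y * z1) (r4 : z1 * y = y * (z1 * z2)) (r5 : y * y * y = 1)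
    (hne : ρ z1 ≠ 1) : ∃ v, v ≠ 0 ∧ ρ y v = v := by
  have hR : ∀ a b v, ρ (a * b) v = ρ a (ρ b v) := fun a b v => mul_apply' ρ a b v
  obtain ⟨u, hu⟩ : ∃ u, u - ρ z1 u ≠ 0 := by
    by_contra h
    push Not at h
    exact hne (LinearMap.ext fun u => (sub_eq_zero.1 (h u)).symm)
  have h0 : ρ z1 (u - ρ z1 u) = -(u - ρ z1 u) := by rw [map_sub, ← hR, r1, map_one, End.one_apply, neg_sub]
  generalize u - ρ z1 u = x at hu h0
  obtain ⟨w, hw, w1, w2⟩ : ∃ w, w ≠ 0 ∧ ρ z1 w = -w ∧ ρ z2 w = w := by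
    by_cases hc : x + ρ z2 x = 0
    · have e2 : ρ z2 x = -x := (neg_eq_of_add_eq_zero_right hc).symm
      have a1 : ρ z1 (ρ y x) = ρ y x := by rw [← hR, r4, hR, hR, e2, map_neg, h0, neg_neg]
      have a2 : ρ z2 (ρ y x) = -ρ y x := by rw [← hR, r3, hR, h0, map_neg]
      refine ⟨ρ y (ρ y x), ne_zero ρ _ (ne_zero ρ _ hu), ?_, ?_⟩
      · rw [← hR z1, r4, hR, hR, a2, map_neg, a1, map_neg]
      · rw [← hR z2, r3, hR, a1]
    · refine ⟨x + ρ z2 x, hc, ?_, ?_⟩
      · rw [map_add, ← hR z1 z2, rc, hR, h0, map_neg, neg_add]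
      · rw [map_add, ← hR, r2, map_one, End.one_apply, add_comm]
  have a1 : ρ z1 (ρ y w) = -ρ y w := by rw [← hR, r4, hR, hR, w2, w1, map_neg]
  have a2 : ρ z2 (ρ y w) = -ρ y w := by rw [← hR, r3, hR, w1, map_neg]
  have a3 : ρ z2 (ρ y (ρ y w)) = -ρ y (ρ y w) := by rw [← hR z2, r3, hR, a1, map_neg]
  refine ⟨w + ρ y w + ρ y (ρ y w), fun h => hw (eq_zero_of_smul h2 ?_), ?_⟩
  · have h3 := congrArg (ρ z2) h
    rw [map_add, map_add, w2, a2, a3, map_zero] at h3
    rw [two_smul, ← add_zero (0 : V)]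
    nth_rewrite 1 [← h]
    rw [← h3]
    abel
  · rw [map_add, map_add, ← hR y y (ρ y w), ← hR (y * y), r5, map_one, End.one_apply]
    abel

/-- no fixed vectors -/
theorem eq_zero_of_fix [FiniteDimensional k V] (h3 : (3 : k) ≠ 0) {x : Fin 4 → V} (hx : LinearIndependent k x)
    (h4 : finrank k V ≤ 4) (T : End k V) (h : ∀ i, ∃ c : k, c ^ 3 = 1 ∧ c ≠ 1 ∧ T (x i) = c • x i) {v : V}
    (hv : T v = v) : v = 0 := by
  have h5 : finrank k V = 4 := le_antisymm h4 (by simpa using hx.fintype_card_le_finrank)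
  have h6 : (1 + T + T * T : End k V) = 0 := by
    refine (basisOfLinearIndependentOfCardEqFinrank hx (by simp [h5])).ext fun i => ?_
    obtain ⟨c, c3, c1, hc⟩ := h i
    rw [coe_basisOfLinearIndependentOfCardEqFinrank, LinearMap.add_apply, LinearMap.add_apply, End.one_apply,
      End.mul_apply, hc, map_smul, hc, smul_smul, LinearMap.zero_apply, ← pow_two]
    nth_rewrite 1 [← one_smul k (x i)]
    rw [← add_smul, ← add_smul, (cube_facts c3 c1).2.2.1, zero_smul]
  have h7 := LinearMap.congr_fun h6 v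
  rw [LinearMap.add_apply, LinearMap.add_apply, End.one_apply, End.mul_apply, hv, hv, LinearMap.zero_apply] at h7
  refine eq_zero_of_smul h3 ?_
  rw [← h7, show (3 : k) = 1 + 1 + 1 by norm_num, add_smul, add_smul, one_smul]

theorem low_six_five [IsAlgClosed k] (h2 : (2 : k) ≠ 0) (h3 : (3 : k) ≠ 0) : Low.{0, 0} k 6 5 := by
  intro V _ _ _ ρ hne
  by_contra hlt
  have hinj := rep_injective (by rw [Fintype.card_fin]; omega) ρ hne
  have hn : ∀ g : alternatingGroup (Fin 6), g ≠ 1 → ρ g ≠ 1 := fun g hg h => hg (hinj (by rw [h, map_one]))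
  have hR : ∀ x y v, ρ (x * y) v = ρ x (ρ y v) := fun x y v => mul_apply' ρ x y v
  set t : alternatingGroup (Fin 6) := cc 0 1 2 (by decide) (by decide) with ht
  set s : alternatingGroup (Fin 6) := cc 3 4 5 (by decide) (by decide) with hs
  set f : alternatingGroup (Fin 6) :=
    ⟨swap 0 3 * swap 3 1 * swap 1 4 * swap 2 5, by rw [mem_alternatingGroup]; decide⟩ with hf
  have hT : ρ t ^ 3 = 1 := by rw [← map_pow, show t ^ 3 = 1 by decide, map_one]
  have hT' : ρ s ^ 3 = 1 := by rw [← map_pow, show s ^ 3 = 1 by decide, map_one]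
  obtain ⟨w0, hw0, μ, hμ1, hμ⟩ := exists_eig_ne_one (ρ t) hT (by exact_mod_cast h3) (hn t (by decide))
  obtain ⟨w, hw, hwμ, ν, hwν⟩ := exists_joint (ρ t) (ρ s)
    (fun v => by rw [← hR, ← hR, show t * s = s * t by decide]) hw0 hμ
  have hμ3 := pow_eq_one_of_eig hT hw hwμ
  have hν3 := pow_eq_one_of_eig hT' hw hwν
  have step : ∀ (x : V) (a b : k), ρ t x = a • x → ρ s x = b • x →
      ρ t (ρ f x) = b ^ 2 • ρ f x ∧ ρ s (ρ f x) = a • ρ f x := fun x a b ha hb =>
    ⟨by rw [← hR, show t * f = f * (s * s) by decide, hR, hR, hb, map_smul, hb, smul_smul, map_smul, pow_two],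
      by rw [← hR, show s * f = f * t by decide, hR, ha, map_smul]⟩
  have sq : ∀ {c : k}, c ^ 3 = 1 → (c ^ 2) ^ 3 = 1 := fun h => by rw [← pow_mul, mul_comm, pow_mul, h, one_pow]
  obtain ⟨s1, s1'⟩ := step w μ ν hwμ hwν
  obtain ⟨s2, s2'⟩ := step _ _ _ s1 s1'
  obtain ⟨s3, s3'⟩ := step _ _ _ s2 s2'
  rw [show (ν ^ 2) ^ 2 = ν ^ 3 * ν by ring, hν3, one_mul] at s3
  have hx := linearIndependent_of_wt (ι := Fin 4) (κ := Bool) (fun b => if b then ρ t else ρ s)
    ![w, ρ f w, ρ f (ρ f w), ρ f (ρ f (ρ f w))] _ (four_weights hμ3 hν3 hμ1) (by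
      intro i
      fin_cases i
      · exact hw
      · exact ne_zero ρ f hw
      · exact ne_zero ρ f (ne_zero ρ f hw)
      · exact ne_zero ρ f (ne_zero ρ f (ne_zero ρ f hw))) (by
      intro i b
      fin_cases i <;> cases b <;> simp only [if_true, Bool.false_eq_true, if_false]
      exacts [hwν, hwμ, s1', s1, s2', s2, s3', s3])
  have m2 := (cube_facts hμ3 hμ1).1
  by_cases hν1 : ν = 1
  · subst hν1
    obtain ⟨v, hv0, hv⟩ := exists_fix h2 ρ (z1 := dt 0 3 1 4 (by decide) (by decide))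
      (z2 := dt 1 4 2 5 (by decide) (by decide)) (y := t * s) (by decide) (by decide) (by decide) (by decide) (by decide)
      (by decide) (hn _ (by decide))
    refine hv0 (eq_zero_of_fix h3 hx (by omega) (ρ (t * s)) (fun i => ?_) hv)
    rw [one_pow] at s1 s2'
    fin_cases i
    · exact ⟨μ, hμ3, hμ1, show ρ _ w = μ • w by rw [hR, hwν, one_smul, hwμ]⟩
    · exact ⟨μ, hμ3, hμ1, show ρ _ (ρ f w) = μ • ρ f w by rw [hR, s1', map_smul, s1, one_smul]⟩
    · exact ⟨μ ^ 2, sq hμ3, m2, show ρ _ (ρ f (ρ f w)) = μ ^ 2 • ρ f (ρ f w) by rw [hR, s2', one_smul, s2]⟩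
    · exact ⟨μ ^ 2, sq hμ3, m2, show ρ _ (ρ f (ρ f (ρ f w))) = μ ^ 2 • ρ f (ρ f (ρ f w)) by
        rw [hR, s3', map_smul, s3, one_smul]⟩
  · obtain ⟨v, hv0, hv⟩ := exists_fix h2 ρ (z1 := dt 0 1 2 3 (by decide) (by decide))
      (z2 := dt 1 2 0 3 (by decide) (by decide)) (y := t) (by decide) (by decide) (by decide) (by decide) (by decide)
      (by decide) (hn _ (by decide))
    refine hv0 (eq_zero_of_fix h3 hx (by omega) (ρ t) (fun i => ?_) hv)
    fin_cases i
    · exact ⟨μ, hμ3, hμ1, hwμ⟩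
    · exact ⟨ν ^ 2, sq hν3, (cube_facts hν3 hν1).1, s1⟩
    · exact ⟨μ ^ 2, sq hμ3, m2, s2⟩
    · exact ⟨ν, hν3, hν1, s3⟩

/-- an element of order three which is inverted in the stabiliser of a line fixes it -/
theorem fix_line [FiniteDimensional k V] (ρ : G →* End k V) (W : Submodule k V) (h1 : finrank k W ≤ 1) {c g : G}
    (hc : ∀ w ∈ W, ρ c w ∈ W) (hg : ∀ w ∈ W, ρ g w ∈ W) (r : g * c = c * c * g) {w : V} (hw : w ∈ W) : ρ c w = w := by
  by_cases h0 : w = 0
  · rw [h0, map_zero]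
  have h2 : finrank k W = 1 := le_antisymm h1 (Nat.one_le_iff_ne_zero.2 fun h => by
    rw [Submodule.finrank_eq_zero.1 h] at hw
    exact h0 hw)
  have h3 : ∀ x ∈ W, ∃ a : k, a • w = x := fun x hx => by
    obtain ⟨a, ha⟩ := (finrank_eq_one_iff_of_nonzero' (⟨w, hw⟩ : W) fun h => h0 (congrArg Subtype.val h)).1 h2 ⟨x, hx⟩
    exact ⟨a, congrArg Subtype.val ha⟩
  obtain ⟨a, ha⟩ := h3 _ (hc w hw)
  obtain ⟨b, hb⟩ := h3 _ (hg w hw)
  have a0 : a ≠ 0 := fun h => ne_zero ρ c h0 (by rw [← ha, h, zero_smul])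
  have b0 : b ≠ 0 := fun h => ne_zero ρ g h0 (by rw [← hb, h, zero_smul])
  have h4 : ρ g (ρ c w) = ρ c (ρ c (ρ g w)) := by rw [← mul_apply', r, mul_apply', mul_apply']
  rw [← ha, map_smul, ← hb, map_smul, ← ha, map_smul, map_smul, ← ha, smul_smul, smul_smul, smul_smul] at h4
  have h5 : a * b = b * a * a := smul_left_injective k h0 h4
  have h6 : a = 1 := mul_left_cancel₀ (mul_ne_zero a0 b0) (by rw [mul_one]; linear_combination -h5)
  rw [← ha, h6, one_smul]

theorem pn_seven [FiniteDimensional k V] (h2 : (2 : k) ≠ 0) (h5 : finrank k V ≤ 5)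
    (ρ : alternatingGroup (Fin 7) →* End k V) : PN ρ := by
  intro f v hv
  let R := ρ.comp (emb f)
  have hR : ∀ x y v, R (x * y) v = R x (R y v) := fun x y v => mul_apply' R x y v
  set z1 : alternatingGroup (Fin 7) := dt 0 1 2 3 (by decide) (by decide) with hz1
  set z2 : alternatingGroup (Fin 7) := dt 0 2 1 3 (by decide) (by decide) with hz2
  set c : alternatingGroup (Fin 7) := cc 4 5 6 (by decide) (by decide) with hc
  have hv1 : R z1 v = -v := by
    show ρ (emb f z1) v = -v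
    rw [hz1, emb_dt]
    exact hv
  suffices h : R c v = v by
    have h' : ρ (emb f c) v = v := h
    rwa [hc, emb_cc] at h'
  obtain ⟨d1, d2, d3⟩ := four_dim h2 (R.comp (emb (Fin.castLEEmb (show 4 ≤ 7 by norm_num))))
  have e1 : R.comp (emb (Fin.castLEEmb (show 4 ≤ 7 by norm_num))) Z1 = R z1 := congrArg R (emb_dt _ _ _ _ _ _ _)
  have e2 : R.comp (emb (Fin.castLEEmb (show 4 ≤ 7 by norm_num))) Z2 = R z2 := congrArg R (emb_dt _ _ _ _ _ _ _)
  rw [e1, e2] at d1 d2 d3
  have c1 : ∀ w, R z1 (R c w) = R c (R z1 w) := fun w => by rw [← hR, ← hR, show z1 * c = c * z1 by decide]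
  have c2 : ∀ w, R z2 (R c w) = R c (R z2 w) := fun w => by rw [← hR, ← hR, show z2 * c = c * z2 by decide]
  have a1 : R z1 (R z2 v) = -R z2 v := by rw [← hR, show z1 * z2 = z2 * z1 by decide, hR, hv1, map_neg]
  have a2 : R z2 (R z2 v) = v := by rw [← hR, show z2 * z2 = 1 by decide, map_one, End.one_apply]
  have f1 : R c (v + R z2 v) = v + R z2 v := by
    refine fix_line R (LinearMap.ker (R z1 + 1) ⊓ LinearMap.ker (R z2 - 1)) (by omega)
      (g := dt 0 2 4 5 (by decide) (by decide)) (fun w hw => ?_) (fun w hw => ?_) (by decide) ?_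
    · exact ⟨mem_km.2 (by rw [c1, mem_km.1 hw.1, map_neg]), mem_kp.2 (by rw [c2, mem_kp.1 hw.2])⟩
    · refine ⟨mem_km.2 ?_, mem_kp.2 ?_⟩
      · rw [← hR, show z1 * dt 0 2 4 5 _ _ = dt 0 2 4 5 (by decide) (by decide) * (z1 * z2) by decide, hR, hR,
          mem_kp.1 hw.2, mem_km.1 hw.1, map_neg]
      · rw [← hR, show z2 * dt 0 2 4 5 _ _ = dt 0 2 4 5 (by decide) (by decide) * z2 by decide, hR, mem_kp.1 hw.2]
    · exact ⟨mem_km.2 (by rw [map_add, hv1, a1, neg_add]), mem_kp.2 (by rw [map_add, a2, add_comm])⟩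
  have f2 : R c (v - R z2 v) = v - R z2 v := by
    refine fix_line R (LinearMap.ker (R z1 + 1) ⊓ LinearMap.ker (R z2 + 1)) (by omega)
      (g := dt 0 3 4 5 (by decide) (by decide)) (fun w hw => ?_) (fun w hw => ?_) (by decide) ?_
    · exact ⟨mem_km.2 (by rw [c1, mem_km.1 hw.1, map_neg]), mem_km.2 (by rw [c2, mem_km.1 hw.2, map_neg])⟩
    · refine ⟨mem_km.2 ?_, mem_km.2 ?_⟩
      · rw [← hR, show z1 * dt 0 3 4 5 _ _ = dt 0 3 4 5 (by decide) (by decide) * z2 by decide, hR,
          mem_km.1 hw.2, map_neg]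
      · rw [← hR, show z2 * dt 0 3 4 5 _ _ = dt 0 3 4 5 (by decide) (by decide) * z1 by decide, hR,
          mem_km.1 hw.1, map_neg]
    · exact ⟨mem_km.2 (by rw [map_sub, hv1, a1]; abel), mem_km.2 (by rw [map_sub, a2, neg_sub])⟩
  rw [map_add] at f1
  rw [map_sub] at f2
  refine sub_eq_zero.1 (eq_zero_of_smul h2 ?_)
  rw [two_smul, ← add_zero (0 : V)]
  nth_rewrite 1 [← sub_eq_zero.2 f1]
  rw [← sub_eq_zero.2 f2]
  abel

theorem full_of_two {Γ : Subgroup (Perm (Fin 7))} (hA : c3 4 5 6 ∈ Γ) (hB : c3 2 3 6 ∈ Γ) :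
    Full Γ {x | x ≠ 0 ∧ x ≠ 1} := by
  refine full_of_pair (y1 := 2) (y2 := 3) (by decide) fun x hx h2 h3 => ?_
  obtain ⟨h0, h1⟩ := hx
  fin_cases x
  · exact absurd rfl h0
  · exact absurd rfl h1
  · exact absurd rfl h2
  · exact absurd rfl h3
  · exact (show c3 4 5 6 * c3 2 3 6 * (c3 4 5 6)⁻¹ = c3 (2 : Fin 7) 3 4 by decide) ▸
      mul_mem (mul_mem hA hB) (inv_mem hA)
  · exact (show (c3 4 5 6)⁻¹ * c3 2 3 6 * c3 4 5 6 = c3 (2 : Fin 7) 3 5 by decide) ▸
      mul_mem (mul_mem (inv_mem hA) hB) hA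
  · exact hB

theorem low_seven_odd (h2 : (2 : k) ≠ 0) (p : ℕ) [CharP k p] : Low.{0, 0} k 7 (6 - if p ∣ 7 then 1 else 0) := by
  intro V _ _ _ R hne
  by_contra hlt
  have h := pn_seven h2 (by omega) R
  have hinj := rep_injective (by rw [Fintype.card_fin]; omega) R hne
  have hR : ∀ x y v, R (x * y) v = R x (R y v) := fun x y v => mul_apply' R x y v
  set z1 : alternatingGroup (Fin 7) := dt 0 1 2 3 (by decide) (by decide) with hz1
  set z2 : alternatingGroup (Fin 7) := dt 0 2 1 3 (by decide) (by decide) with hz2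
  set z3 : alternatingGroup (Fin 7) := dt 0 3 1 2 (by decide) (by decide) with hz3
  set t : alternatingGroup (Fin 7) := cc 0 1 2 (by decide) (by decide) with ht
  set g : alternatingGroup (Fin 7) := dt 0 1 4 5 (by decide) (by decide) with hg
  set g' : alternatingGroup (Fin 7) := dt 2 3 4 5 (by decide) (by decide) with hg'
  have r3 : z1 * z2 = z3 := by decide
  have r4 : z3 * t = t * z1 := by decide
  have r5 : z2 * t = t * z3 := by decide
  have r6 : z1 * t = t * z2 := by decide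
  have r8 : g * g = 1 := by decide
  have half : ∀ x : V, x = -x → x = 0 := fun x hx =>
    eq_zero_of_smul h2 (by rw [two_smul]; nth_rewrite 2 [hx]; rw [add_neg_cancel])
  obtain ⟨w0, hw0, hw0'⟩ := Submodule.exists_mem_ne_zero_of_ne_bot
    (p := LinearMap.ker (R z1 - 1) ⊓ LinearMap.ker (R z2 + 1)) fun hb => by
      have e1 : R.comp (emb (Fin.castLEEmb (show 4 ≤ 7 by norm_num))) Z1 = R z1 := congrArg R (emb_dt _ _ _ _ _ _ _)
      have e2 : R.comp (emb (Fin.castLEEmb (show 4 ≤ 7 by norm_num))) Z2 = R z2 := congrArg R (emb_dt _ _ _ _ _ _ _)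
      have h1 := W1_pos h2 (R.comp (emb (Fin.castLEEmb (show 4 ≤ 7 by norm_num)))) (by
        rw [e1]
        exact fun h3 => absurd (hinj (h3.trans (map_one R).symm)) (by decide))
      rw [e1, e2, hb, finrank_bot] at h1
      omega
  have w01 := mem_kp.1 hw0.1
  have w02 := mem_km.1 hw0.2
  obtain ⟨w1, hw1, w11, w12, hgw⟩ : ∃ w1 : V, w1 ≠ 0 ∧ R z1 w1 = w1 ∧ R z2 w1 = -w1 ∧
      (R g w1 = w1 ∨ R g w1 = -w1) := by
    by_cases hc : w0 + R g w0 = 0
    · exact ⟨w0, hw0', w01, w02, Or.inr (neg_eq_of_add_eq_zero_right hc).symm⟩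
    · refine ⟨w0 + R g w0, hc, ?_, ?_, Or.inl ?_⟩
      · rw [map_add, ← hR z1 g, show z1 * g = g * z1 by decide, hR, w01]
      · have e3 : R z3 w0 = -w0 := by rw [← r3, hR, w02, map_neg, w01]
        rw [map_add, ← hR z2 g, show z2 * g = g * z3 by decide, hR, e3, w02, map_neg, neg_add]
      · rw [map_add, ← hR, r8, map_one, End.one_apply, add_comm]
  have w13 : R z3 w1 = -w1 := by rw [← r3, hR, w12, map_neg, w11]
  have fz1 : ∀ v, R z1 v = -v → c3 4 5 6 ∈ stab R v := fun v hv =>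
    full_of_PN h (by decide) (by decide) (by decide) (by decide) (by decide) (by decide) hv 4 (by decide) 5 (by decide) 6
      (by decide) (by decide) (by decide) (by decide)
  have fz2 : ∀ v, R z2 v = -v → c3 4 5 6 ∈ stab R v := fun v hv =>
    full_of_PN h (by decide) (by decide) (by decide) (by decide) (by decide) (by decide) hv 4 (by decide) 5 (by decide) 6
      (by decide) (by decide) (by decide) (by decide)
  have fg : ∀ v, R g v = -v → c3 2 3 6 ∈ stab R v := fun v hv =>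
    full_of_PN h (by decide) (by decide) (by decide) (by decide) (by decide) (by decide) hv 2 (by decide) 3 (by decide) 6
      (by decide) (by decide) (by decide) (by decide)
  have fg' : ∀ v, R g' v = -v → c3 0 1 6 ∈ stab R v := fun v hv =>
    full_of_PN h (by decide) (by decide) (by decide) (by decide) (by decide) (by decide) hv 0 (by decide) 1 (by decide) 6
      (by decide) (by decide) (by decide) (by decide)
  rcases hgw with hgw | hgw
  · set w3 := R t w1 with hw3
    set w2 := R t w3 with hw2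
    have tw2 : R t w2 = w1 := by rw [hw2, hw3, ← hR, ← hR, show t * t * t = 1 by decide, map_one, End.one_apply]
    have gw3 : R g w3 = w2 := by rw [hw3, ← hR, show g * t = t * t * g by decide, hR, hgw, hR]
    have gw2 : R g w2 = w3 := by rw [← gw3, ← hR, r8, map_one, End.one_apply]
    have z1w3 : R z1 w3 = -w3 := by rw [hw3, ← hR, r6, hR, w12, map_neg]
    have z2w3 : R z2 w3 = -w3 := by rw [hw3, ← hR, r5, hR, w13, map_neg]
    have z3w3 : R z3 w3 = w3 := by rw [hw3, ← hR, r4, hR, w11]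
    have z1w2 : R z1 w2 = -w2 := by rw [hw2, ← hR, r6, hR, z2w3, map_neg]
    have z2w2 : R z2 w2 = w2 := by rw [hw2, ← hR, r5, hR, z3w3]
    have he0 : w2 - w3 ≠ 0 := fun hcon => by
      rw [sub_eq_zero.1 hcon, z2w3] at z2w2
      exact ne_zero R t hw1 (half w3 z2w2.symm)
    have ge : R g (w2 - w3) = -(w2 - w3) := by rw [map_sub, gw2, gw3, neg_sub]
    have z1e : R z1 (w2 - w3) = -(w2 - w3) := by rw [map_sub, z1w2, z1w3]; abel
    have h3 := nat_bound (ρ := R) (x1 := 0) (x2 := 1) (x3 := 2) (x4 := 3) (x5 := 2) p (by simp) he0 (by decide)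
      (full_of_two (fz1 _ z1e) (fg _ ge)) (by decide) (by decide) (by decide) (by decide) (by decide) z1e (by decide)
      (by decide) (show w2 - w3 + R t (w2 - w3) + R t (R t (w2 - w3)) = 0 by
        rw [map_sub, tw2, ← hw2, map_sub, tw2, ← hw3]
        abel)
    rw [Fintype.card_fin] at h3
    exact hlt h3
  · have g'w : R g' w1 = -w1 := by rw [show g' = z1 * g by decide, hR, hgw, map_neg, w11]
    have F := full_of_two (fz2 w1 w12) (fg w1 hgw)
    have hC := fg' w1 g'w
    have h2' := F 6 (by decide) 2 (by decide) 4 (by decide) (by decide) (by decide) (by decide)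
    have h3' := F 6 (by decide) 3 (by decide) 4 (by decide) (by decide) (by decide) (by decide)
    have h5 : ((z2 : alternatingGroup (Fin 7)) : Perm (Fin 7)) ∈ stab R w1 :=
      (show (c3 6 2 4 * c3 0 1 6 * (c3 6 2 4)⁻¹) * (c3 6 3 4 * c3 0 1 6 * (c3 6 3 4)⁻¹) =
          ((z2 : alternatingGroup (Fin 7)) : Perm (Fin 7)) by decide) ▸
        mul_mem (mul_mem (mul_mem h2' hC) (inv_mem h2')) (mul_mem (mul_mem h3' hC) (inv_mem h3'))
    rw [mem_stab, w12] at h5
    exact hw1 (half w1 h5.symm)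

end

theorem le_of_low {F : Type} [Field F] {j b n : ℕ} (hj : 3 ≤ j) (h : Low.{0, 0} (AlgebraicClosure F) j b)
    (hf : Fth n F (alternatingGroup (Fin j))) : b ≤ n := by
  obtain ⟨ρ, hρ⟩ := hf
  have := alternatingGroup.nontrivial_of_three_le_card (α := Fin j) (by simpa using hj)
  obtain ⟨g, hg⟩ := exists_ne (1 : alternatingGroup (Fin j))
  let K := AlgebraicClosure F
  have h1 := h (Fin n → K) ((Matrix.toLinAlgEquiv' (R := K) (n := Fin n)).toMulEquiv.toMonoidHom.comp
    (((algebraMap F K).mapMatrix : Matrix (Fin n) (Fin n) F →+* _).toMonoidHom.comp ((Units.coeHom _).comp ρ)))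
    ⟨g, fun h2 => hg (hρ ?_)⟩
  · rwa [Module.finrank_fin_fun] at h1
  · have h3 : (ρ g : Matrix (Fin n) (Fin n) F).map (algebraMap F K) = 1 :=
      (Matrix.toLinAlgEquiv' (R := K) (n := Fin n)).injective (h2.trans (map_one _).symm)
    rw [map_one]
    refine Units.ext (Matrix.map_injective (algebraMap F K).injective (h3.trans ?_))
    exact (Matrix.map_one _ (map_zero _) (map_one _)).symm

/-- the least degree of a faithful representation of `A_c` in characteristic `p` -/
def dgA (c p : ℕ) : ℕ :=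
  if c ≤ 5 then (if p = 2 then 2 else 3)
  else if c = 6 then (if p = 2 then 4 else if p = 3 then 3 else 5)
  else if c = 7 then (if p = 2 then 4 else if p = 7 then 5 else 6)
  else if c = 8 then (if p = 2 then 4 else 7)
  else c - 1 - (if p ∣ c then 1 else 0)

theorem dgA_le {c p n : ℕ} (hc : 5 ≤ c) (hp : p.Prime) {F : Type} [Field F] [CharP F p] {S : Type} [Group S]
    (e : S ≃* alternatingGroup (Fin c)) (hf : Fth n F S) : dgA c p ≤ n := by
  replace hf := hf.congr e
  have key : ∀ (K : Type) [Field K] [CharP K p] (t : ℕ), t.Prime → p ≠ t → (t : K) ≠ 0 := fun K _ _ t ht h h0 =>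
    h ((Nat.prime_dvd_prime_iff_eq hp ht).1 ((CharP.cast_eq_zero_iff K p t).1 h0))
  let K := AlgebraicClosure F
  have k2 : p ≠ 2 → (2 : K) ≠ 0 := fun h => by exact_mod_cast key K 2 Nat.prime_two h
  have k3 : p ≠ 3 → (3 : K) ≠ 0 := fun h => by exact_mod_cast key K 3 Nat.prime_three h
  have l6 : p = 2 → 6 ≤ c → 4 ≤ n := fun h h6 =>
    le_of_low (by omega) (low_mono (by norm_num) (low_six (k3 (by omega))) h6) hf
  unfold dgA
  split_ifs with h1 h2 h3 h4 h5 h6 h7 h8 h9 h10 h11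
  · obtain rfl : c = 5 := by omega
    refine H912.Bd.bd_of_prime (F := F) Nat.prime_five (key F 5 Nat.prime_five (by omega))
      (x := cc 0 1 2 (by decide) (by decide) * cc 2 3 4 (by decide) (by decide))
      (y := dt 1 4 2 3 (by decide) (by decide)) (k := 4) ?_ (by decide) 2 (by decide) n (hf.pr 5)
    have := Fact.mk Nat.prime_five
    exact orderOf_eq_prime (by decide) (by decide)
  · exact le_of_low (by omega) (low_three (k2 h2) c hc) hf
  · exact l6 h4 (by omega)
  · exact le_of_low (by omega) (low_three (k2 h4) c hc) hf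
  · subst h3
    exact le_of_low (by omega) (low_six_five (k2 h4) (k3 h5)) hf
  · exact l6 h7 (by omega)
  · subst h6 h8
    exact le_of_low (by omega) (low_seven_odd (k2 h7) 7) hf
  · subst h6
    have h := le_of_low (by omega) (low_seven_odd (k2 h7) p) hf
    rwa [if_neg fun h => h8 ((Nat.prime_dvd_prime_iff_eq hp Nat.prime_seven).1 h)] at h
  · exact l6 h10 (by omega)
  · exact H912.Bd.bd_alt_two (by exact_mod_cast key F 2 Nat.prime_two h10) (by omega) n (hf.pr 2)
  all_goals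
    have h : c - 1 - (if p ∣ c then 1 else 0) ≤ n := by
      by_cases h2 : p = 2
      · subst h2
        exact le_of_low (by omega) (low_two c (by omega)) hf
      · exact le_of_low (by omega) (low_odd (k2 h2) p c (by omega)) hf
    simpa only [h11, if_true, if_false] using h

end Cfsg.Agent.TH.Ex.Dg
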