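import Cfsg.Agent.TH.Ex.Dg.Spor
import Cfsg.Agent.TH.Ex.Dg.Alt
import Cfsg.Agent.TH.Sim.LieDeg
import Cfsg.Agent.TH.Ex1.Enum
import Cfsg.Agent.TwoF.XE.LB

/-!
# S3541: lower bounds for the degree of a faithful linear representation, the groups of Lie type; the table (helper53)
-/

set_option autoImplicit false

namespace Cfsg.Agent.TH.Ex.Dg

open Cfsg Cfsg.Agent.OrdDiv Cfsg.Agent.H902 Cfsg.Agent.H902.Names Cfsg.Agent.H912.Bd Cfsg.Agent.H290.ElReg
  Cfsg.Agent.H290.ElTab Cfsg.Agent.H252.EN Cfsg.Agent.H889.Enum Cfsg.Agent.TH.Sim.LieN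

open Cfsg.Agent.LieRecognition.SzMatrix in
/-- the proof of `H296.Bd.bd_sz` over an arbitrary field -/
theorem bd_sz {k : Type} [Field k] (hk : ((2 : ℕ) : k) ≠ 0) {F : Type} [Field F] [Fintype F] {m : ℕ} (hm : 1 ≤ m)
    (hF : Fintype.card F = 2 ^ (2 * m + 1)) : Bd k 2 (2 * (Fintype.card F - 1)) ↥(Cfsg.Lie.Sz F (2 ^ (m + 1))) := by
  classical
  have H := good hF
  obtain ⟨c, hc⟩ : ∃ c : F, c ∉ ({0, 1} : Finset F) := by
    by_contra h
    push Not at h
    have h1 : (Finset.univ : Finset F) ⊆ {0, 1} := fun x _ => h x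
    have h2 := Finset.card_le_card h1
    have h3 : ({0, 1} : Finset F).card ≤ 2 := Finset.card_le_two
    have h4 : 2 ^ 3 ≤ 2 ^ (2 * m + 1) := Nat.pow_le_pow_right (by norm_num) (by omega)
    rw [Finset.card_univ, hF] at h2
    omega
  simp only [Finset.mem_insert, Finset.mem_singleton, not_or] at hc
  have hθc : theta hF c ≠ c := by
    intro h
    have h1 := H.sq c
    rw [h, h] at h1
    have h2 : c * (c - 1) = 0 := by linear_combination -h1
    rcases mul_eq_zero.1 h2 with h3 | h3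
    · exact hc.1 h3
    · exact hc.2 (sub_eq_zero.1 h3)
  let E : Subgroup ↥(Cfsg.Lie.Sz F (2 ^ (m + 1))) :=
    { carrier := {g | ∃ b : F, g = H.u 0 b}
      mul_mem' := by
        rintro _ _ ⟨b, rfl⟩ ⟨b', rfl⟩
        exact ⟨b + b', by rw [H.u_mul]; simp⟩
      one_mem' := ⟨0, H.u_zero.symm⟩
      inv_mem' := by
        rintro _ ⟨b, rfl⟩
        exact ⟨b, by rw [H.u_inv]; simp⟩ }
  have hEm : ∀ b, H.u 0 b ∈ E := fun b => ⟨b, rfl⟩
  have hz : ∀ (x y b : F), H.u x y * H.u 0 b = H.u 0 b * H.u x y := by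
    intro x y b
    rw [H.u_mul, H.u_mul]
    simp [add_comm]
  have hab : H.u 1 0 * H.u c 0 * (H.u 1 0)⁻¹ * (H.u c 0)⁻¹ = H.u 0 (theta hF c + c) := by
    rw [mul_inv_eq_iff_eq_mul, mul_inv_eq_iff_eq_mul, mul_assoc (H.u 0 _), H.u_mul, H.u_mul, H.u_mul, add_comm 1 c]
    have h1 : c + c = 0 := H.add_self c
    congr 1
    · ring
    · simp only [map_one, zero_mul, add_zero, zero_add, one_mul, mul_one]
      linear_combination -h1
  have hdu : ∀ (k : Fˣ) (b : F), H.d k * H.u 0 b * (H.d k)⁻¹ = H.u 0 (b * theta hF k) := by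
    intro k b
    rw [H.d_mul_u, mul_inv_cancel_right, zero_mul, zero_mul]
  have key := Cfsg.Agent.H912.Bd.bd_of_free_ext (F := k) (r := 2) Nat.prime_two hk E
    (by rintro _ ⟨b, rfl⟩ _ ⟨b', rfl⟩; exact hz _ _ _)
    (by
      rintro ⟨_, ⟨b, rfl⟩⟩
      refine ⟨1, Subtype.ext ?_⟩
      show H.u 0 b ^ 2 ^ 1 = 1
      rw [pow_one, pow_two, H.u_mul, H.add_self, H.add_self]
      simpa using H.u_zero)
    (Finset.univ.image fun k : Fˣ => H.d k)
    (by
      intro s hs e he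
      obtain ⟨k, -, rfl⟩ := Finset.mem_image.1 hs
      obtain ⟨b, rfl⟩ := he
      rw [hdu]
      exact hEm _)
    (by
      intro s hs t ht hst e he h
      obtain ⟨k, -, rfl⟩ := Finset.mem_image.1 hs
      obtain ⟨l, -, rfl⟩ := Finset.mem_image.1 ht
      obtain ⟨b, rfl⟩ := he
      rw [hdu, hdu] at h
      have h1 := (H.u_inj h).2
      have h2 : b = 0 := by
        by_contra hb
        exact hst (by rw [Units.ext ((theta hF).injective (mul_left_cancel₀ hb h1))])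
      rw [h2, H.u_zero])
    (a := H.u 1 0) (b := H.u c 0)
    (by rintro _ ⟨b, rfl⟩; exact hz _ _ _) (by rintro _ ⟨b, rfl⟩; exact hz _ _ _) (k := 2)
    (by
      have h1 : H.u 1 0 ^ 2 = H.u 0 1 := by
        rw [pow_two, H.u_mul, H.add_self]
        simp
      have h2 : (2 : ℕ) ^ 2 = 2 * 2 := by norm_num
      rw [h2, pow_mul, h1, pow_two, H.u_mul, H.add_self, H.add_self]
      simpa using H.u_zero)
    (by rw [hab]; exact hEm _)
    (by
      rw [hab]
      intro h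
      rw [← H.u_zero] at h
      have h1 := (H.u_inj h).2
      exact hθc (by
        have h2 : c + c = 0 := H.add_self c
        linear_combination h1 - h2))
    (by
      rw [hab, pow_two, H.u_mul, H.add_self, H.add_self]
      simpa using H.u_zero)
  have hcard : (Finset.univ.image fun k : Fˣ => H.d k).card = Fintype.card F - 1 := by
    rw [Finset.card_image_of_injective _ fun k l h => H.d_inj h, Finset.card_univ, Fintype.card_units]
  rw [hcard, mul_comm] at key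
  exact key

/-- further bounds -/
def lx : Art.Sh → ℕ → ℕ
  | .G2, q => if q % 3 = 0 then 2 * ((q - 1) * q) else (q - 1) * q ^ 2
  | .Sz, q => 2 * (q - 1)
  | _, _ => 0

/-- the bound in cross characteristic (valid up to `249`) -/
def dgL (X : Art.Sh) (q : ℕ) : ℕ := max (max (lb X q) (lc X q)) (max (if Sim.LieN.Ex X q then 0 else lp X q) (lx X q))

section

variable {S : Type} [Group S] {g : Grp} {X : Art.Sh} {r f : ℕ}

theorem bd_lx (hg : IsLie g X r f) (h : OrdDiv.Real g S) (hr : Art.Real X r f (Nat.card S)) {k : Type} [Field k]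
    (hk : (r : k) ≠ 0) : Bd k r (lx X (r ^ f)) S := by
  obtain ⟨hl, ha, hok, -⟩ := hr
  cases hg with
  | g2 p f =>
    obtain ⟨K, _, _, hK, ⟨e⟩⟩ := h
    have hc := charP_of_pow hl hK
    rw [lx, ← hK]
    split_ifs with h3
    · obtain rfl : r = 3 := ((Nat.prime_dvd_prime_iff_eq Nat.prime_three hl).1
        (Nat.prime_three.dvd_of_dvd_pow (hK ▸ Nat.dvd_of_mod_eq_zero h3))).symm
      exact (TwoF.XE.LB.bd_g2_three hk).congr e
    · refine (TwoF.XE.LB.bd_g2 hl hk fun h0 => h3 ?_).congr e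
      obtain rfl := (Nat.prime_dvd_prime_iff_eq hl Nat.prime_three).1
        ((CharP.cast_eq_zero_iff K r 3).1 (by exact_mod_cast h0))
      rw [hK]
      exact Nat.mod_eq_zero_of_dvd (dvd_pow_self 3 (by omega))
  | sz p f =>
    obtain ⟨K, _, _, m, hm, hK, hq, ⟨e⟩⟩ := h
    obtain ⟨rfl, -, -⟩ := hok
    rw [lx, ← hK]
    exact (bd_sz hk hm (hK.trans hq)).congr e
  | _ => exact fun _ _ => Nat.zero_le _

theorem dgL_le [Finite S] [IsSimpleGroup S] (hna : ¬ ∀ a b : S, a * b = b * a) (hg : IsLie g X r f)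
    (h : OrdDiv.Real g S) (hr : Art.Real X r f (Nat.card S)) {n : ℕ} (hn : n ≤ 248) {F : Type} [Field F]
    (hk : (r : F) ≠ 0) (hf : Fth n F S) : dgL X (r ^ f) ≤ n := by
  refine max_le (max_le (lb_le hna hn hf hg h hr hk) (bd_lc hg h hr hk n (hf.pr r)))
    (max_le ?_ (bd_lx hg h hr hk n (hf.pr r)))
  split_ifs with hx
  · exact Nat.zero_le _
  · exact ls_le hna (ls_lp hg h hr hx) hf hk

end

/-- every faithful representation of `S` in characteristic `p` of degree at most `248` has degree at least `R` -/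
def Deg (p R : ℕ) (S : Type) [Group S] : Prop := ∀ (F : Type) [Field F] [CharP F p] (n : ℕ), n ≤ 248 → Fth n F S → R ≤ n

/-- **the table** -/
theorem enum (hK : AllK) {n p : ℕ} [hp : Fact p.Prime] (hn : n ≤ 248) {F : Type} [Field F] [CharP F p] {N : Type} [Group N]
    [Finite N] [IsSimpleGroup N] (hc : ¬ IsMulCommutative N) (hf : Fth n F N) (hL : ¬ IsLieTypeChar p N) :
    (∃ c, 5 ≤ c ∧ Nonempty (N ≃* alternatingGroup (Fin c)) ∧ 2 * Nat.card N = c.factorial ∧
      Nat.card (MulAut N) = autA c ∧ Deg p (dgA c p) N) ∨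
    (∃ x ∈ spor, OrdDiv.Real x.1 N ∧ Nat.card N = x.2 ∧ Nat.card (MulAut N) ∣ 2 * x.2 ∧ Deg p (dgS x.1 p) N) ∨
    ∃ x ∈ reg n, x.2.1 ≠ p ∧ (∃ g, IsLie g x.1 x.2.1 x.2.2 ∧ OrdDiv.Real g N) ∧ Art.Real x.1 x.2.1 x.2.2 (Nat.card N) ∧
      Nat.card N = od x.1 x.2.1 x.2.2 ∧ Nat.card (MulAut N) = ouN x.1 x.2.1 x.2.2 * od x.1 x.2.1 x.2.2 ∧
      Deg p (dgL x.1 (x.2.1 ^ x.2.2)) N := by
  have hna : ¬ ∀ a b : N, a * b = b * a := fun h => hc ⟨⟨h⟩⟩
  have key : IsSporadicGroup N ∨ Lie.IsoTits N → Nat.card (Out N) ∣ 2 →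
      ∃ x ∈ spor, OrdDiv.Real x.1 N ∧ Nat.card N = x.2 ∧ Nat.card (MulAut N) ∣ 2 * x.2 ∧ Deg p (dgS x.1 p) N :=
    fun h h2 => by
      obtain ⟨x, hx, hr⟩ := H977.T5Spor.exists_real h
      have h3 := table.spor N x hx hr
      exact ⟨x, hx, hr, h3, by rw [← H934.OutB.card_out_mul N hc, h3]; exact Nat.mul_dvd_mul_right h2 _,
        fun _ _ _ _ _ h4 => dgS_le hna hr h4⟩
  rcases cross_lie table hn hna (hK N) hf hL with ⟨c, h5, he⟩ | h | h | ⟨g, X, l, a, hg, hT, hA, hr, hl⟩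
  · refine Or.inl ⟨c, h5, he, ?_, aut_alt hna h5 he, fun _ _ _ _ _ h4 => dgA_le h5 hp.out he.some h4⟩
    obtain ⟨e⟩ := he
    rw [Nat.card_congr e.toEquiv]
    exact card_alt (by omega)
  · exact Or.inr (Or.inl (key (Or.inr h) (out_tits h)))
  · exact Or.inr (Or.inl (key (Or.inl h) (H149.Sp.card_out_dvd_two h)))
  · refine Or.inr (Or.inr ⟨_, hr, hl, ⟨g, hg, hT⟩, hA, real_eq hA, by rw [aut_ouN hna hg hT hA, real_eq hA],
      fun K _ _ _ h1 h4 => dgL_le hna hg hT hA h1 (fun h0 => hl ?_) h4⟩)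
    exact ((Nat.prime_dvd_prime_iff_eq hp.out hA.hp).1 ((CharP.cast_eq_zero_iff K p l).1 h0)).symm

end Cfsg.Agent.TH.Ex.Dg
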