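import Cfsg.Agent.TH.Ex.Dg.BoxS
import Cfsg.Agent.TH.Ex.Dg.Lie
import Cfsg.Agent.H894.EK.Own
import Cfsg.Agent.S0806

/-!
# S3541, several simple factors in `F₄, E₆, ²E₆, E₇, E₈`: the rows of Lie type of the table (helper53)
-/

set_option autoImplicit false

namespace Cfsg.Agent.TH.Ex.Dg

open Cfsg Cfsg.Agent.OrdDiv Cfsg.Agent.H902 Cfsg.Agent.H902.Names Cfsg.Agent.TH.Ex.Mu Cfsg.Agent.H290.ElReg
  Cfsg.Agent.H290.ElTab Cfsg.Agent.H252.EN Cfsg.Agent.H889.Enum Cfsg.Agent.TH.Sim.LieN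

/-- the names of alternating groups -/
def AltN (X : Art.Sh) (q : ℕ) : Prop := X = .L 2 ∧ (q = 4 ∨ q = 5 ∨ q = 9) ∨ X = .L 4 ∧ q = 2

/-- the second characteristic -/
def o2 (X : Art.Sh) (q : ℕ) : ℕ :=
  if X = .L 2 ∧ q = 7 then 2 else if X = .L 3 ∧ q = 2 then 7 else if X = .U 4 ∧ q = 2 then 3
  else if X = .C 2 ∧ q = 3 then 2 else 1

/-- a lower bound for the indices (valid up to `249`) -/
def ix (X : Art.Sh) (q : ℕ) : ℕ :=
  max (max (dgL X q) (if Sim.LieN.Ex X q then 0 else li X q))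
    (if X = .L 2 ∧ q ∉ ({2, 3, 5, 7, 9, 11} : Finset ℕ) then q + 1 else 0)

section

variable {S : Type} [Group S] {g : Grp} {X : Art.Sh} {r f : ℕ}

theorem alt_of (hg : IsLie g X r f) (h : OrdDiv.Real g S) (ha : AltN X (r ^ f)) : IsAlternating S := by
  rcases ha with ⟨rfl, h1 | h1 | h1⟩ | ⟨rfl, h1⟩ <;> cases hg <;> obtain ⟨F, _, _, hF, ⟨e⟩⟩ := h
  · exact ⟨5, le_rfl, ⟨e.trans (S0252.result (hF.trans h1)).some⟩⟩
  · exact ⟨5, le_rfl, ⟨e.trans (S0253.result (hF.trans h1)).some⟩⟩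
  · exact ⟨6, by norm_num, ⟨e.trans (S0254.result (hF.trans h1)).some⟩⟩
  · exact ⟨8, by norm_num, ⟨e.trans (S0256.result (hF.trans h1)).some⟩⟩

theorem not_dvd_o2 (hg : IsLie g X r f) (h : OrdDiv.Real g S) {p : ℕ} (hp : p.Prime) (hL : ¬ IsLieTypeChar p S) :
    ¬ p ∣ o2 X (r ^ f) := by
  have key : ∀ s : ℕ, s.Prime → IsLieTypeChar s S → ¬ p ∣ s := fun s hs h1 h2 =>
    hL ((Nat.prime_dvd_prime_iff_eq hp hs).1 h2 ▸ h1)
  unfold o2
  split_ifs with h1 h2 h3 h4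
  · obtain ⟨rfl, h1⟩ := h1
    cases hg
    exact key 2 Nat.prime_two (H894.EK.own_l27 (h1 ▸ h))
  · obtain ⟨rfl, h2⟩ := h2
    cases hg
    obtain ⟨F, _, _, hF, ⟨e⟩⟩ := h
    have := Fact.mk Nat.prime_seven
    exact key 7 Nat.prime_seven (Or.inl ⟨ZMod 7, inferInstance, inferInstance, inferInstance, 2, le_rfl,
      fun _ => by rw [ZMod.card]; norm_num, ⟨e.trans (S0255.result (ZMod.card 7) (hF.trans h2)).some.symm⟩⟩)
  · obtain ⟨rfl, h3⟩ := h3
    cases hg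
    exact key 3 Nat.prime_three (H894.EK.own_u42 (h3 ▸ h))
  · obtain ⟨rfl, h4⟩ := h4
    cases hg with
    | psp => exact key 2 Nat.prime_two (H894.EK.own_sp43 (h4 ▸ h))
    | oodd _ _ _ hn => omega
  · exact hp.not_dvd_one

theorem ix_le [Finite S] [IsSimpleGroup S] (hc : ¬ IsMulCommutative S) (hg : IsLie g X r f) (h : OrdDiv.Real g S)
    (hr : Art.Real X r f (Nat.card S)) {U : Subgroup S} (hU : U ≠ ⊤) (h1 : U.index ≤ 248) : ix X (r ^ f) ≤ U.index := by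
  refine max_le (max_le (dgL_le (fun h => hc ⟨⟨h⟩⟩) hg h hr h1 (by exact_mod_cast hr.hp.ne_zero) (fth_index hU)) ?_) ?_
  · split_ifs with hx
    · exact Nat.zero_le _
    · exact li_le hc hg h hr hx U hU
  · split_ifs with hx
    · obtain ⟨rfl, hx⟩ := hx
      cases hg
      obtain ⟨F, _, _, hF, ⟨e⟩⟩ := h
      rw [← Subgroup.index_map_of_bijective (f := e.toMonoidHom) e.bijective U]
      refine (S0806.result hF hx).1 _ fun h2 => hU ?_
      rw [← Subgroup.index_eq_one, Subgroup.index_map_of_bijective (f := e.toMonoidHom) e.bijective U] at h2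
      exact Subgroup.index_eq_one.1 h2
    · exact Nat.zero_le _

end

/-- the entry `y` fits -/
def fitL (t o R e i : ℕ) (y : Ent) : Bool :=
  y.t == t && y.ou % o == 0 && y.al == 0 && y.on == 0 && Nat.ble y.R R && e % y.ex == 0 && Nat.ble y.lm 248 &&
    (Nat.ble y.lm i || (y.lm - 1).factorial % t != 0)

theorem chkL : ((reg 82).all fun x => force (x.2.1 ^ x.2.2) fun q => force (dgL x.1 q) fun R => Nat.blt 82 R ||
    @decide (AltN x.1 q) (by unfold AltN; infer_instance) ||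
      force (od x.1 x.2.1 x.2.2) fun t => tab.any (fitL t (ouN x.1 x.2.1 x.2.2) R (x.2.1 * o2 x.1 q) (ix x.1 q))) = true := by
  decide +kernel

theorem boxDegL : BoxDegL := by
  rintro p n F _ _ N _ _ _ hp hn hc hf hL ⟨ha, g, X, l, a, hg, hT, hA, hr, hl⟩
  have hna : ¬ ∀ a b : N, a * b = b * a := fun h => hc ⟨⟨h⟩⟩
  have hd : ∀ (K : Type) [Field K] [CharP K p] (m : ℕ), m ≤ 248 → Fth m K N → dgL X (l ^ a) ≤ m := fun K _ _ m h1 h2 =>
    dgL_le hna hg hT hA h1 (fun h0 => hl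
      ((Nat.prime_dvd_prime_iff_eq hp hA.hp).1 ((CharP.cast_eq_zero_iff K p l).1 h0)).symm) h2
  have h1 := hd F n (by omega) hf
  have h5 := List.all_eq_true.1 chkL _ hr
  simp only [force_eq, Bool.or_eq_true, Nat.blt_eq, List.any_eq_true, decide_eq_true_eq] at h5
  rcases h5 with (h5 | h5) | ⟨y, hy, h5⟩
  · omega
  · exact absurd (alt_of hg hT h5) ha
  simp only [fitL, Bool.and_eq_true, Bool.or_eq_true, beq_iff_eq, bne_iff_ne, Nat.ble_eq] at h5
  obtain ⟨⟨⟨⟨⟨⟨⟨a1, a2⟩, a3⟩, a4⟩, a5⟩, a6⟩, a7⟩, a8⟩ := h5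
  have h3 := real_eq hA
  refine ⟨y, hy, h3.trans a1.symm, ?_, fun K _ _ m hm => ?_, fun h => ?_, Or.inl a4, fun U hU => ?_, fun s _ => ?_,
    Or.inl a3⟩
  · rw [aut_ouN hna hg hT hA, a1, h3]
    exact Nat.mul_dvd_mul_right (Nat.dvd_of_mod_eq_zero a2) _
  · by_cases h2 : m ≤ 248
    · exact a5.trans (hd K m h2 hm)
    · omega
  · rcases (Nat.Prime.dvd_mul hp).1 (h.trans (Nat.dvd_of_mod_eq_zero a6)) with h2 | h2
    · exact hl ((Nat.prime_dvd_prime_iff_eq hp hA.hp).1 h2).symm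
    · exact not_dvd_o2 hg hT hp hL h2
  · by_cases h2 : U.index ≤ 248
    · rcases a8 with a8 | a8
      · exact a8.trans (ix_le hc hg hT hA hU h2)
      · exact le_index_of_fac hU fun h => a8 (Nat.mod_eq_zero_of_dvd (h3 ▸ h))
    · omega
  · rw [cnt, if_neg (by omega), if_neg (by omega), a1, ← h3]
    exact ncard_le_card _

/-- [DEG] -/
theorem boxDeg : BoxDeg := boxDeg_of boxDegA boxDegS boxDegL

end Cfsg.Agent.TH.Ex.Dg
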