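import Cfsg.Agent.H290.ElReg
import Cfsg.Agent.H921.SporTable
import Cfsg.Agent.H921.SporMcL
import Cfsg.Agent.H921.SporFi24
import Cfsg.Agent.H489.DegCo
import Cfsg.Agent.H489.DegRu
import Cfsg.Agent.H489.DegTh
import Cfsg.Agent.H489.Cyc.SuzDeg
import Cfsg.Agent.H489.Cyc.ONDeg
import Cfsg.Agent.H489.Cyc.RuDeg
import Cfsg.Agent.H388.EP.JFourLS
import Cfsg.Agent.H806.LsFiTwo
import Cfsg.Agent.H806.LsFiThree
import Cfsg.Agent.H433.EP.LsFi
import Cfsg.Agent.H502.EP.HN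
import Cfsg.Agent.H592.Ppd.RowLy
import Cfsg.Agent.H592.Ppd.RowM
import Cfsg.Agent.H840.EP.Th
import Cfsg.Agent.H888.C6.RowB
import Cfsg.Agent.H444.EP.Mon
import Cfsg.Agent.H648.EPV.Tits24

/-!
# S3541: lower bounds for the degree of a faithful linear representation, the sporadic groups and the Tits group (helper53)
-/

set_option autoImplicit false

namespace Cfsg.Agent.TH.Ex.Dg

open Cfsg Cfsg.Agent.OrdDiv Cfsg.Agent.H912.Bd Cfsg.Agent.H203.LS Cfsg.Agent.H290.ElReg Cfsg.Agent.H921.Spor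

/-- every faithful representation of `S` in characteristic other than `r` has degree at least `m` -/
def Lo (r m : ℕ) (S : Type) [Group S] : Prop :=
  ∀ (F : Type) [Field F], (r : F) ≠ 0 → ∀ n, Fth n F S → m ≤ n

section

variable {S X : Type} [Group S] [Group X] {r m : ℕ}

theorem Lo.of_bd (h : ∀ (F : Type) [Field F], (r : F) ≠ 0 → Bd F r m S) : Lo r m S :=
  fun F _ hr n hf => h F hr n (hf.pr r)

theorem Lo.of_orb (hr : r.Prime) (h : Orb r m S) : Lo r m S := Lo.of_bd fun _ _ hF => h.bd hr hF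

theorem Lo.of_conf (hr : r.Prime) (h : Conf r m S) : Lo r m S := Lo.of_bd fun _ _ hF => h.bd hr hF

theorem Lo.of_ls [Finite S] [IsSimpleGroup S] (hna : ¬ ∀ a b : S, a * b = b * a) (h : LS.{0, 0, 0} r m S) : Lo r m S :=
  fun _ _ hr _ hf => ls_le hna h hf hr

theorem Lo.sub (h : Lo r m X) (f : X →* S) (hf : Function.Injective f) : Lo r m S :=
  fun F _ hr n h1 => h F hr n (h1.sub f hf)

theorem Lo.congr (h : Lo r m X) (e : S ≃* X) : Lo r m S := h.sub e.symm.toMonoidHom e.symm.injective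

theorem Lo.mono {m' : ℕ} (h : Lo r m S) (hm : m' ≤ m) : Lo r m' S := fun F _ hr n hf => hm.trans (h F hr n hf)

/-- two primes -/
theorem Lo.ite {s m' p n : ℕ} (h : Lo r m S) (h' : Lo s m' S) (hr : r.Prime) (hs : s.Prime) (hrs : r ≠ s) {F : Type}
    [Field F] [CharP F p] (hf : Fth n F S) : (if p = r then m' else m) ≤ n := by
  have key : ∀ t : ℕ, t.Prime → p ≠ t → (t : F) ≠ 0 := fun t ht hp h0 => by
    rcases CharP.char_is_prime_or_zero F p with h1 | h1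
    · exact hp ((Nat.prime_dvd_prime_iff_eq h1 ht).1 ((CharP.cast_eq_zero_iff F p t).1 h0))
    · subst h1
      exact ht.ne_zero (zero_dvd_iff.1 ((CharP.cast_eq_zero_iff F 0 t).1 h0))
  split_ifs with h1
  · exact h' F (key s hs (h1 ▸ hrs)) n hf
  · exact h F (key r hr h1) n hf

end

/-- `(r, m, s, m')` : degree at least `m` in characteristic other than `r`, at least `m'` in characteristic other than `s` -/
def tS : Grp → ℕ × ℕ × ℕ × ℕ
  | .tits => (2, 24, 5, 24)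
  | .m11 => (3, 8, 11, 5)
  | .m12 => (3, 8, 2, 6)
  | .m22 => (2, 15, 3, 8)
  | .m23 => (2, 15, 23, 11)
  | .m24 => (2, 15, 23, 11)
  | .j1 => (11, 10, 19, 6)
  | .j2 => (2, 12, 7, 6)
  | .j3 => (3, 24, 2, 15)
  | .j4 => (11, 110, 2, 64)
  | .co1 => (5, 20, 3, 20)
  | .co2 => (5, 20, 3, 20)
  | .co3 => (5, 20, 3, 20)
  | .mcl => (5, 20, 3, 20)
  | .hs => (5, 20, 2, 15)
  | .suz => (3, 110, 2, 15)
  | .he => (7, 42, 5, 24)
  | .ru => (2, 63, 5, 20)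
  | .on => (3, 80, 31, 15)
  | .ly => (5, 44, 3, 44)
  | .fi22 => (2, 28, 3, 26)
  | .fi23 => (2, 28, 3, 26)
  | .fi24 => (7, 42, 2, 28)
  | .hn => (5, 20, 2, 16)
  | .th => (7, 24, 2, 16)
  | .b => (2, 2048, 3, 16)
  | .m => (2, 4096, 7, 42)
  | _ => (2, 0, 3, 0)

/-- the bound in characteristic `p` -/
def dgS (g : Grp) (p : ℕ) : ℕ := if p = (tS g).1 then (tS g).2.2.2 else (tS g).2.1

theorem lo_sub {G S : Type} [Group G] [Group S] [Finite S] [IsSimpleGroup S] (hna : ¬ ∀ a b : S, a * b = b * a)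
    (H : Subgroup G) (e : Nonempty (S ≃* H)) (h : LS.{0, 0, 0} 2 24 H) (h' : Orb 5 24 H) : Lo 2 24 S ∧ Lo 5 24 S :=
  ⟨Lo.of_ls hna (h.congr e.some.symm), (Lo.of_orb Nat.prime_five h').congr e.some⟩

theorem lo_tS {S : Type} [Group S] [Finite S] [hs : IsSimpleGroup S] (hna : ¬ ∀ a b : S, a * b = b * a) {g : Grp}
    (h : OrdDiv.Real g S) : Lo (tS g).1 (tS g).2.1 S ∧ Lo (tS g).2.2.1 (tS g).2.2.2 S := by
  have nc : ∀ {Y : Type} [Group Y], (S ≃* Y) → ∃ a b : Y, a * b ≠ b * a := fun e => by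
    by_contra h1
    push Not at h1
    exact hna fun a b => e.injective (by rw [map_mul, map_mul, h1])
  have sp : ∀ {Y : Type} [Group Y], (S ≃* Y) → IsSimpleGroup Y := fun e => (MulEquiv.isSimpleGroup_congr e).1 hs
  have ls : ∀ {Y : Type} [Group Y] (_ : S ≃* Y) {r m : ℕ}, LS.{0, 0, 0} r m Y → Lo r m S := fun e _ _ h =>
    Lo.of_ls hna (h.congr e.symm)
  have p2 := Nat.prime_two
  have p3 := Nat.prime_three
  have p5 := Nat.prime_five
  have p7 := Nat.prime_seven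
  have p11 := Nat.prime_eleven
  have p19 : Nat.Prime 19 := by norm_num
  have p23 : Nat.Prime 23 := by norm_num
  have p31 : Nat.Prime 31 := by norm_num
  cases g with
  | tits => exact lo_sub hna (_root_.commutator (Lie.twistedF4 (ZMod 2) 1)) h H648.EPV.ls24_tits Tits.Tits_five
  | m11 =>
    obtain ⟨e⟩ := h
    exact ⟨(Lo.of_conf p3 M24.M11_three).congr e, (Lo.of_conf p11 M24.M11_eleven).congr e⟩
  | m12 =>
    obtain ⟨e⟩ := h
    exact ⟨(Lo.of_conf p3 M24.M12_three).congr e, (Lo.of_orb p2 M24.M12_two).congr e⟩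
  | m22 =>
    obtain ⟨e⟩ := h
    exact ⟨(Lo.of_orb p2 M24.M22_two).congr e, (Lo.of_orb p3 M24.M22_three).congr e⟩
  | m23 =>
    obtain ⟨e⟩ := h
    exact ⟨(Lo.of_conf p2 M24.M23_two).congr e, (Lo.of_conf p23 M24.M23_twentythree).congr e⟩
  | m24 =>
    obtain ⟨e⟩ := h
    exact ⟨(Lo.of_conf p2 M24.M24_two).congr e, (Lo.of_conf p23 M24.M24_twentythree).congr e⟩
  | j1 =>
    obtain ⟨e⟩ := h
    exact ⟨(Lo.of_conf p11 J1.J1_eleven).congr e, (Lo.of_conf p19 J1.J1_nineteen).congr e⟩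
  | j2 =>
    obtain ⟨e⟩ := h
    exact ⟨(Lo.of_orb p2 J2.J2_two).congr e, (Lo.of_orb p7 J2.J2_seven).congr e⟩
  | j3 =>
    obtain ⟨F, _, _, ω, hF, hω, ⟨e⟩⟩ := h
    have H := Cfsg.Agent.J3.Core.good_of_card hF hω
    exact ⟨(Lo.of_orb p3 (J3.J3_three hF H)).congr e, (Lo.of_orb p2 (J3.J3_two hF H)).congr e⟩
  | j4 =>
    obtain ⟨e⟩ := h
    exact ⟨ls e H388.EP.ls_eleven, ls e H388.EP.ls_two⟩
  | co1 =>
    obtain ⟨e⟩ := h
    exact ⟨(Lo.of_bd fun _ _ h5 => McL.Co1_five (by exact_mod_cast h5)).congr e, (Lo.of_orb p3 McL.Co1_three).congr e⟩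
  | co2 =>
    obtain ⟨e⟩ := h
    exact ⟨(Lo.of_bd fun _ _ h5 => McL.Co2_five (by exact_mod_cast h5)).congr e, (Lo.of_orb p3 McL.Co2_three).congr e⟩
  | co3 =>
    obtain ⟨e⟩ := h
    exact ⟨(Lo.of_bd fun _ _ h5 => McL.Co3_five (by exact_mod_cast h5)).congr e, (Lo.of_orb p3 McL.Co3_three).congr e⟩
  | mcl =>
    obtain ⟨e⟩ := h
    exact ⟨(Lo.of_bd fun _ _ h5 => H489.Deg.Co.mcl_five (by exact_mod_cast h5)).congr e,
      (Lo.of_orb p3 McL.McL_three).congr e⟩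
  | hs =>
    obtain ⟨e⟩ := h
    exact ⟨(Lo.of_bd fun _ _ h5 => H489.Deg.Co.hs_five (by exact_mod_cast h5)).congr e,
      (Lo.of_orb p2 Co.HS_two).congr e⟩
  | suz =>
    obtain ⟨e⟩ := h
    exact ⟨(Lo.of_orb p3 H489.Cyc.SuzG.orb).congr e, (Lo.of_orb p2 Suz.Suz_two).congr e⟩
  | he =>
    obtain ⟨e⟩ := h
    exact ⟨(Lo.of_orb p7 He.He_seven).congr e, (Lo.of_orb p5 He.He_five).congr e⟩
  | ru =>
    obtain ⟨e⟩ := h
    exact ⟨(Lo.of_orb p2 H489.Cyc.RuG.orb').congr e,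
      (Lo.of_bd fun _ _ h5 => H489.Deg.Ru.ru_five (by exact_mod_cast h5)).congr e⟩
  | on =>
    obtain ⟨e⟩ := h
    exact ⟨(Lo.of_orb p3 H489.Cyc.ONG.orb).congr e, (Lo.of_orb p31 (ON.ON_thirtyone (sp e))).congr e⟩
  | ly =>
    obtain ⟨e⟩ := h
    exact ⟨(Lo.of_orb p5 H592.Ppd.Ly.orb_five).congr e, (Lo.of_orb p3 H592.Ppd.Ly.orb_three).congr e⟩
  | fi22 =>
    obtain ⟨e⟩ := h
    have := sp e
    exact ⟨ls e (H806.Ls.fi22_ls_two (nc e)), ls e H433.EP.ls22⟩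
  | fi23 =>
    obtain ⟨e⟩ := h
    have := sp e
    exact ⟨ls e (H806.Ls.fi23_ls_two (nc e)), ls e H433.EP.ls23⟩
  | fi24 =>
    obtain ⟨e⟩ := h
    have := sp e
    exact ⟨(Lo.of_orb p7 Fi24.Fi24_seven).congr e, ls e (H806.Ls.fi24_ls_two (nc e))⟩
  | hn =>
    obtain ⟨e⟩ := h
    exact ⟨ls e H502.EP.HN.ls_five, ls e H502.EP.HN.ls_two⟩
  | th =>
    obtain ⟨e⟩ := h
    exact ⟨(Lo.of_orb p7 H840.EP.Th.th_seven).congr e, (Lo.of_orb p2 H489.Deg.Th.th_two).congr e⟩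
  | b =>
    have h1 := h
    obtain ⟨e⟩ := h
    have := sp e
    exact ⟨Lo.of_bd fun _ _ h2 => H888.C6.bd_baby (by exact_mod_cast h2) h1, ls e (H806.Ls.b_ls_three (nc e))⟩
  | m =>
    obtain ⟨e⟩ := h
    exact ⟨ls e H444.EP.Mon.ls_two, (Lo.of_orb p7 H592.Ppd.m_seven).congr e⟩
  | _ => exact ⟨fun _ _ _ _ _ => Nat.zero_le _, fun _ _ _ _ _ => Nat.zero_le _⟩

theorem tS_prime (g : Grp) : (tS g).1.Prime ∧ (tS g).2.2.1.Prime ∧ (tS g).1 ≠ (tS g).2.2.1 := by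
  cases g <;> simp only [tS] <;> norm_num

theorem dgS_le {S : Type} [Group S] [Finite S] [IsSimpleGroup S] (hna : ¬ ∀ a b : S, a * b = b * a) {g : Grp}
    (h : OrdDiv.Real g S) {p n : ℕ} {F : Type} [Field F] [CharP F p] (hf : Fth n F S) : dgS g p ≤ n :=
  (lo_tS hna h).1.ite (lo_tS hna h).2 (tS_prime g).1 (tS_prime g).2.1 (tS_prime g).2.2 hf

end Cfsg.Agent.TH.Ex.Dg
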