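import Cfsg.Agent.TH.Ex.Mu.Defs
import Cfsg.Agent.TH.Ex.Dg.Alt
import Cfsg.Agent.TH.Sim.Alt

/-!
# S3541, several simple factors in `F₄, E₆, ²E₆, E₇, E₈`: the alternating rows of the table (helper53)
-/

set_option autoImplicit false

namespace Cfsg.Agent.TH.Ex.Dg

open Cfsg Equiv Finset Cfsg.Agent.TH.Ex.Mu Cfsg.Agent.H290.ElReg Cfsg.Agent.H889.Enum Cfsg.Agent.H252.EN

/-- equality of entries -/
def eqE (x y : Ent) : Bool :=
  x.t == y.t && x.ou == y.ou && x.R == y.R && x.ex == y.ex && x.on == y.on && x.lm == y.lm && x.al == y.al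

theorem mem_tab {x : Ent} (h : tab.any (eqE x) = true) : x ∈ tab := by
  obtain ⟨y, hy, h1⟩ := List.any_eq_true.1 h
  obtain ⟨_, _, _, _, _, _, _⟩ := x
  obtain ⟨_, _, _, _, _, _, _⟩ := y
  simp only [eqE, Bool.and_eq_true, beq_iff_eq] at h1
  obtain ⟨⟨⟨⟨⟨⟨rfl, rfl⟩, rfl⟩, rfl⟩, rfl⟩, rfl⟩, rfl⟩ := h1
  exact hy

theorem ncard_le_card {N : Type} [Finite N] (s : Set N) : s.ncard ≤ Nat.card N := by
  rw [← Set.ncard_univ]
  exact Set.ncard_le_ncard (Set.subset_univ _)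

theorem ncard_pow_le {N : Type} [Group N] {c s : ℕ} (e : N ≃* alternatingGroup (Fin c)) (hs : s.Prime) :
    {y : N | y ^ s = 1}.ncard ≤ ∑ j ∈ range (c / s + 1),
      #{g : alternatingGroup (Fin c) | (g : Perm (Fin c)).cycleType = Multiset.replicate j s} := by
  have := Fact.mk hs
  refine le_trans ?_ card_biUnion_le
  rw [← Set.ncard_coe_finset]
  refine Set.ncard_le_ncard_of_injOn e (fun y hy => ?_) e.injective.injOn
  have h1 : ((e y : alternatingGroup (Fin c)) : Perm (Fin c)) ^ s = 1 := by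
    rw [← Subgroup.coe_pow, ← map_pow, show y ^ s = 1 from hy, map_one, Subgroup.coe_one]
  have h2 := Perm.cycleType_of_pow_prime_eq_one h1
  have h3 := Perm.sum_cycleType_le ((e y : alternatingGroup (Fin c)) : Perm (Fin c))
  rw [h2, Multiset.sum_replicate, Fintype.card_fin, smul_eq_mul] at h3
  exact mem_coe.2 (mem_biUnion.2 ⟨_, mem_range.2 (Nat.lt_succ_of_le ((Nat.le_div_iff_mul_le hs.pos).2 h3)),
    mem_filter.2 ⟨mem_univ _, h2⟩⟩)

/-- the entry of `A_c` -/
def entA (c : ℕ) : Ent :=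
  ⟨c.factorial / 2, if c = 6 then 4 else 2, if c = 5 then 3 else if c ≤ 7 then 4 else if c = 8 then 7 else c - 2,
    if c = 5 then 10 else if c = 6 then 3 else if c = 8 then 2 else 1, 0, c, c⟩

theorem entA_mem : ∀ c, c ≤ 18 → 5 ≤ c → tab.any (eqE (entA c)) = true := by decide +kernel

theorem boxDegA : BoxDegA := by
  rintro p n F _ _ N _ _ _ hp - hc - hl ⟨c, h5, h18, ⟨e⟩⟩
  have hna : ¬ ∀ a b : N, a * b = b * a := fun h => hc ⟨⟨h⟩⟩
  have h1 : ¬ (c = 5 ∧ (p = 2 ∨ p = 5) ∨ c = 6 ∧ p = 3 ∨ c = 8 ∧ p = 2) := fun h => hl (Sim.Al.lie_of_alt e h)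
  have h2 : 2 * Nat.card N = c.factorial := by
    rw [Nat.card_congr e.toEquiv]
    exact card_alt (by omega)
  have h3 : Nat.card N = (entA c).t := by
    show _ = c.factorial / 2
    omega
  refine ⟨entA c, mem_tab (entA_mem c h18 h5), h3, ?_, fun K _ _ m hm => le_trans ?_ (dgA_le h5 hp e hm), ?_, Or.inl rfl,
    fun U hU => ?_, fun s hs => ?_, Or.inr ⟨e⟩⟩
  · rw [aut_alt hna h5 ⟨e⟩, ← h3, autA]
    show _ ∣ (if c = 6 then 4 else 2) * _
    split_ifs with h6
    · subst h6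
      rw [show Nat.card N = 360 by rw [show Nat.factorial 6 = 720 by rfl] at h2; omega]
    · rw [h2]
  · show (if c = 5 then 3 else if c ≤ 7 then 4 else if c = 8 then 7 else c - 2) ≤ _
    unfold dgA
    split_ifs <;> omega
  · show ¬ p ∣ (if c = 5 then 10 else if c = 6 then 3 else if c = 8 then 2 else 1)
    split_ifs with h6 h7 h8
    · intro h
      rcases (Nat.Prime.dvd_mul hp (m := 2) (n := 5)).1 h with h | h
      · exact h1 (Or.inl ⟨h6, Or.inl ((Nat.prime_dvd_prime_iff_eq hp Nat.prime_two).1 h)⟩)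
      · exact h1 (Or.inl ⟨h6, Or.inr ((Nat.prime_dvd_prime_iff_eq hp Nat.prime_five).1 h)⟩)
    · exact fun h => h1 (Or.inr (Or.inl ⟨h7, (Nat.prime_dvd_prime_iff_eq hp Nat.prime_three).1 h⟩))
    · exact fun h => h1 (Or.inr (Or.inr ⟨h8, (Nat.prime_dvd_prime_iff_eq hp Nat.prime_two).1 h⟩))
    · exact hp.not_dvd_one
  · have h := Sim.Al.le_index_alt e (by simpa using h5) hU
    rwa [Fintype.card_fin] at h
  · unfold cnt
    split_ifs with h6 h7
    · obtain ⟨h6, rfl⟩ := h6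
      obtain rfl : c = 7 := h6
      refine (ncard_pow_le e hs).trans ?_
      simp only [AlternatingGroup.card_of_cycleType]
      decide +kernel
    · obtain ⟨h7, rfl⟩ := h7
      obtain rfl : c = 8 := h7
      refine (ncard_pow_le e hs).trans ?_
      simp only [AlternatingGroup.card_of_cycleType]
      decide +kernel
    · exact h3 ▸ ncard_le_card _

end Cfsg.Agent.TH.Ex.Dg
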