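import Cfsg.Agent.TH.Ex.Dg.BoxA
import Cfsg.Agent.TH.Ex.Dg.Spor
import Cfsg.Agent.H977.T5SporA
import Cfsg.Agent.H149.Sp.Base
import Cfsg.Agent.S0493

/-!
# S3541, several simple factors in `F₄, E₆, ²E₆, E₇, E₈`: the sporadic rows of the table (helper53)
-/

set_option autoImplicit false

namespace Cfsg.Agent.TH.Ex.Dg

open Cfsg Cfsg.Agent.OrdDiv Cfsg.Agent.TH.Ex.Mu Cfsg.Agent.H290.ElReg Cfsg.Agent.H889.Enum

section

variable {S : Type} [Group S] [Finite S] [IsSimpleGroup S] {M : Subgroup S}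

/-- the permutation representation -/
theorem fth_index (hM : M ≠ ⊤) : Fth M.index ℚ S := by
  classical
  have := Fintype.ofFinite (S ⧸ M)
  have h1 : M.normalCore = ⊥ :=
    M.normalCore_normal.eq_bot_or_eq_top.resolve_right fun h1 => hM (eq_top_iff.2 (h1 ▸ M.normalCore_le))
  have h2 : Function.Injective (MulAction.toPermHom S (S ⧸ M)) := by
    rw [← MonoidHom.ker_eq_bot_iff, ← Subgroup.normalCore_eq_ker, h1]
  rw [Subgroup.index, Nat.card_eq_fintype_card]
  refine Fth.of (ρ := (Matrix.permMatrixHom (R := ℚ)).toHomUnits.comp (MulAction.toPermHom S (S ⧸ M))) ?_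
  refine (injective_iff_map_eq_one _).2 fun a ha => h2 ?_
  have h4 : (MulAction.toPermHom S (S ⧸ M) a)⁻¹.permMatrix ℚ = 1 := congrArg Units.val ha
  rw [map_one, ← inv_eq_one]
  ext i
  by_contra h5
  have h6 := congrFun (congrFun h4 i) i
  rw [Matrix.one_apply_eq, Equiv.Perm.permMatrix, PEquiv.toMatrix_apply, if_neg (by simpa using h5)] at h6
  exact zero_ne_one h6

theorem le_index_of_fac (hM : M ≠ ⊤) {c : ℕ} (h : ¬ Nat.card S ∣ (c - 1).factorial) : c ≤ M.index := by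
  by_contra h1
  exact h ((S0493.card_dvd_factorial M hM).trans (Nat.factorial_dvd_factorial (by omega)))

end

/-- the entry `y` fits -/
def fitS (g : Grp) (t p : ℕ) (y : Ent) : Bool :=
  y.t == t && y.ou == 2 && y.al == 0 && Nat.ble y.R (dgS g p) && Nat.blt 0 y.ex && Nat.blt y.ex 37 && y.ex % p != 0 &&
    (y.on == 0 || (y.on == p && Nat.blt p 37)) && (Nat.ble y.lm (tS g).2.1 || (y.lm - 1).factorial % t != 0)

theorem chkS : (spor.all fun x => Nat.blt (tS x.1).1 37 && (List.range 38).all fun p =>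
    Nat.blt p 2 || Nat.blt 82 (dgS x.1 p) || tab.any (fitS x.1 x.2 p)) = true := by decide +kernel

theorem boxDegS : BoxDegS := by
  intro p n F _ _ N _ _ _ hp hn hc hf _ h
  have hna : ¬ ∀ a b : N, a * b = b * a := fun h => hc ⟨⟨h⟩⟩
  have ho : Nat.card (Out N) ∣ 2 := h.elim H149.Sp.card_out_dvd_two out_tits
  obtain ⟨x, hx, hr⟩ := H977.T5Spor.exists_real h
  have h3 := table.spor N x hx hr
  have h4 := List.all_eq_true.1 chkS x hx
  rw [Bool.and_eq_true, Nat.blt_eq] at h4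
  have h5 := List.all_eq_true.1 h4.2 (min p 37) (List.mem_range.2 (by omega))
  have h6 : dgS x.1 (min p 37) = dgS x.1 p := by
    unfold dgS
    have h7 := h4.1
    split_ifs <;> first | rfl | omega
  have h7 := hp.two_le
  have h8 := dgS_le hna hr hf
  simp only [Bool.or_eq_true, Nat.blt_eq, List.any_eq_true, h6] at h5
  rcases h5 with (h5 | h5) | ⟨y, hy, h5⟩
  · omega
  · omega
  simp only [fitS, Bool.and_eq_true, Bool.or_eq_true, beq_iff_eq, bne_iff_ne, Nat.ble_eq, Nat.blt_eq, h6] at h5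
  obtain ⟨⟨⟨⟨⟨⟨⟨⟨a1, a2⟩, a3⟩, a4⟩, a5⟩, a6⟩, a7⟩, a8⟩, a9⟩ := h5
  refine ⟨y, hy, h3.trans a1.symm, ?_, fun K _ _ m hm => a4.trans (dgS_le hna hr hm), fun h => ?_, by omega,
    fun U hU => ?_, fun s _ => ?_, Or.inl a3⟩
  · rw [← H934.OutB.card_out_mul N hc, a1, a2, h3]
    exact Nat.mul_dvd_mul_right ho _
  · have h9 := Nat.le_of_dvd a5 h
    rw [min_eq_left (by omega)] at a7
    exact a7 (Nat.mod_eq_zero_of_dvd h)
  · rcases a9 with a9 | a9
    · exact a9.trans ((lo_tS hna hr).1 ℚ (by exact_mod_cast (tS_prime x.1).1.ne_zero) _ (fth_index hU))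
    · exact le_index_of_fac hU fun h => a9 (Nat.mod_eq_zero_of_dvd (h3 ▸ h))
  · rw [cnt, if_neg (by omega), if_neg (by omega), a1, ← h3]
    exact ncard_le_card _

end Cfsg.Agent.TH.Ex.Dg
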